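import Mathlib

/-!
# Subfield intersections with a strictly henselian local domain

Auxiliary algebra for the statement that `S ∩ L` is essentially étale over a henselian excellent
local domain `A` whose strict henselization `S` is a domain: splitting of monic polynomials with
separable reduction over a strictly henselian local domain, and the key computation showing that
the maximal ideal of `D = S ∩ L` is generated by the maximal ideal of `A`.
-/

set_option linter.style.haveILetI false
set_option linter.unusedVariables false
set_option linter.unusedSectionVars false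
set_option autoImplicit false
set_option backward.isDefEq.respectTransparency.types false
set_option backward.isDefEq.respectTransparency false
set_option synthInstance.maxHeartbeats 400000
set_option maxHeartbeats 1600000

open Polynomial IsLocalRing

namespace Groth.Agent.Helper7.InterField

universe u

section Residue

variable {A E : Type*} [CommRing A] [IsLocalRing A] [CommRing E] [IsLocalRing E] [Algebra A E]
  [IsLocalHom (algebraMap A E)]

theorem residue_comp :
    (algebraMap (ResidueField A) (ResidueField E)).comp (residue A) =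
      (residue E).comp (algebraMap A E) := by
  ext a
  rfl

theorem residue_aeval (p : A[X]) (x : E) :
    residue E (aeval x p) = aeval (residue E x) (p.map (residue A)) := by
  rw [aeval_def, aeval_def, eval₂_map, residue_comp, hom_eval₂]

omit [Algebra A E] [IsLocalHom (algebraMap A E)] [IsLocalRing A] [CommRing A] in
theorem residue_eval (p : E[X]) (a : E) :
    residue E (p.eval a) = (p.map (residue E)).eval (residue E a) := by
  rw [Polynomial.eval_map, Polynomial.eval₂_at_apply]

end Residue

section Split

variable {A S : Type*} [CommRing A] [IsLocalRing A] [CommRing S] [IsLocalRing S] [IsDomain S]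
  [Algebra A S] [IsLocalHom (algebraMap A S)]

theorem splits_map_of_separable (hSh : HenselianLocalRing S) [IsSepClosed (ResidueField S)]
    (h : A[X]) (hm : h.Monic) (hsep : (h.map (residue A)).Separable) :
    (h.map (algebraMap A S)).Splits := by
  classical
  have hSm : (h.map (algebraMap A S)).Monic := hm.map _
  have hκeq : (h.map (algebraMap A S)).map (residue S) =
      (h.map (residue A)).map (algebraMap (ResidueField A) (ResidueField S)) := by
    rw [Polynomial.map_map, Polynomial.map_map, residue_comp]
  have hκsep : ((h.map (algebraMap A S)).map (residue S)).Separable := by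
    rw [hκeq]; exact hsep.map
  have hκm : ((h.map (algebraMap A S)).map (residue S)).Monic := hSm.map _
  have hκsplits : ((h.map (algebraMap A S)).map (residue S)).Splits :=
    IsSepClosed.splits_of_separable _ hκsep
  have hnd : ((h.map (algebraMap A S)).map (residue S)).roots.Nodup :=
    Polynomial.nodup_roots hκsep
  have hcard : ((h.map (algebraMap A S)).map (residue S)).roots.card =
      ((h.map (algebraMap A S)).map (residue S)).natDegree :=
    Polynomial.splits_iff_card_roots.mp hκsplits
  have hdeg : ((h.map (algebraMap A S)).map (residue S)).natDegree =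
      (h.map (algebraMap A S)).natDegree := hSm.natDegree_map _
  have hsub : ((h.map (algebraMap A S)).map (residue S)).roots ⊆
      (h.map (algebraMap A S)).roots.map (residue S) := by
    intro c hc
    have hc0 : ((h.map (algebraMap A S)).map (residue S)).eval c = 0 :=
      (Polynomial.mem_roots hκm.ne_zero).mp hc
    obtain ⟨a₀, rfl⟩ := residue_surjective c
    have h1 : (h.map (algebraMap A S)).eval a₀ ∈ maximalIdeal S := by
      rw [← residue_eq_zero_iff, residue_eval]
      exact hc0
    have h2 : IsUnit ((h.map (algebraMap A S)).derivative.eval a₀) := by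
      rw [← residue_ne_zero_iff_isUnit, residue_eval, ← Polynomial.derivative_map]
      obtain ⟨a, b, hab⟩ := hκsep
      have h3 := congrArg (Polynomial.eval (residue S a₀)) hab
      simp only [eval_add, eval_mul, eval_one, hc0, mul_zero, zero_add] at h3
      intro h0
      rw [h0, mul_zero] at h3
      exact zero_ne_one h3
    obtain ⟨c', hc'root, hc'sub⟩ := hSh.is_henselian (h.map (algebraMap A S)) hSm a₀ h1 h2
    have hres : residue S c' = residue S a₀ := by
      have h3 : residue S (c' - a₀) = 0 := (residue_eq_zero_iff _).mpr hc'sub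
      rwa [map_sub, sub_eq_zero] at h3
    exact Multiset.mem_map.mpr ⟨c', (Polynomial.mem_roots hSm.ne_zero).mpr hc'root, hres⟩
  have hle : ((h.map (algebraMap A S)).map (residue S)).roots ≤
      (h.map (algebraMap A S)).roots.map (residue S) := (Multiset.le_iff_subset hnd).mpr hsub
  have h3 : ((h.map (algebraMap A S)).map (residue S)).roots.card ≤
      (h.map (algebraMap A S)).roots.card := by
    have h4 := Multiset.card_le_card hle
    rwa [Multiset.card_map] at h4
  rw [Polynomial.splits_iff_card_roots]
  refine le_antisymm (Polynomial.card_roots' _) ?_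
  rw [← hdeg, ← hcard]
  exact h3

omit [IsLocalRing S] in
theorem coeff_mem_range_of_dvd {K : Type*} [Field K] [Algebra S K]
    (hinj : Function.Injective (algebraMap S K))
    (hS : S[X]) (hSm : hS.Monic) (hsplit : hS.Splits) (P : K[X]) (hP : P.Monic)
    (hdvd : P ∣ hS.map (algebraMap S K)) (n : ℕ) :
    P.coeff n ∈ Set.range (algebraMap S K) := by
  classical
  have hK0 : hS.map (algebraMap S K) ≠ 0 := (hSm.map _).ne_zero
  have hKsplit : (hS.map (algebraMap S K)).Splits := hsplit.map _
  have hPsplit : P.Splits := hKsplit.of_dvd hK0 hdvd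
  have hroots : (hS.map (algebraMap S K)).roots = hS.roots.map (algebraMap S K) :=
    hsplit.roots_map_of_injective hinj
  have hPle : P.roots ≤ (hS.map (algebraMap S K)).roots := Polynomial.roots.le_of_dvd hK0 hdvd
  have hPeq : P = (P.roots.map (fun a => X - C a)).prod := hPsplit.eq_prod_roots_of_monic hP
  have hmem : P ∈ Polynomial.lifts (algebraMap S K) := by
    rw [hPeq]
    apply Subsemiring.multiset_prod_mem
    intro q hq
    obtain ⟨a, ha, rfl⟩ := Multiset.mem_map.mp hq
    have ha' : a ∈ hS.roots.map (algebraMap S K) := hroots ▸ Multiset.mem_of_le hPle ha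
    obtain ⟨c, -, rfl⟩ := Multiset.mem_map.mp ha'
    exact (Polynomial.mem_lifts _).mpr ⟨X - C c, by simp⟩
  exact (Polynomial.lifts_iff_coeff_lifts P).mp hmem n

end Split

section Crux

variable {A S : Type u} [CommRing A] [IsLocalRing A] [CommRing S] [IsLocalRing S] [IsDomain S]
  [Algebra A S] [IsLocalHom (algebraMap A S)]

theorem map_residue_eq_zero_of_aeval_mem (h : A[X]) (hm : h.Monic)
    (hirr : Irreducible (h.map (residue A)))
    (ζ : S) (hζ : aeval ζ h = 0) (q : A[X]) (hq : q.natDegree < h.natDegree)
    (hx : aeval ζ q ∈ maximalIdeal S) : q.map (residue A) = 0 := by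
  have hbm : (h.map (residue A)).Monic := hm.map _
  have h1 : aeval (residue S ζ) (h.map (residue A)) = 0 := by
    rw [← residue_aeval, hζ, map_zero]
  have h2 : aeval (residue S ζ) (q.map (residue A)) = 0 := by
    rw [← residue_aeval]
    exact (residue_eq_zero_iff _).mpr hx
  have h3 : h.map (residue A) = minpoly (ResidueField A) (residue S ζ) :=
    minpoly.eq_of_irreducible_of_monic hirr h1 hbm
  have h4 : h.map (residue A) ∣ q.map (residue A) := by
    rw [h3]
    exact minpoly.dvd _ _ h2
  apply Polynomial.eq_zero_of_dvd_of_natDegree_lt h4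
  calc (q.map (residue A)).natDegree ≤ q.natDegree := Polynomial.natDegree_map_le
    _ < h.natDegree := hq
    _ = (h.map (residue A)).natDegree := (hm.natDegree_map _).symm

theorem crux {K : Type u} [Field K] [Algebra S K] [IsFractionRing S K] [Algebra A K]
    [IsScalarTower A S K]
    (hSh : HenselianLocalRing S) [IsSepClosed (ResidueField S)]
    (L : Subfield K) (hAL : ∀ a : A, algebraMap A K a ∈ L)
    (D : Subalgebra A S) (hD : ∀ x : S, x ∈ D ↔ algebraMap S K x ∈ L)
    (h : A[X]) (hm : h.Monic) (hirr : Irreducible (h.map (residue A)))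
    (hsep : (h.map (residue A)).Separable) (ζ : S) (hζ : aeval ζ h = 0)
    (hDE : ∀ x ∈ D, x ∈ Algebra.adjoin A {ζ}) (x : D) (hx : (x : S) ∈ maximalIdeal S) :
    x ∈ Ideal.map (algebraMap A D) (maximalIdeal A) := by
  classical
  have hι : Function.Injective (algebraMap S K) := IsFractionRing.injective S K
  -- maps
  let fAL : A →+* L := (algebraMap A K).codRestrict L hAL
  let fDS : D →+* S := algebraMap D S
  let fDK : D →+* K := (algebraMap S K).comp fDS
  have hfDK_mem : ∀ d : D, fDK d ∈ L := fun d => (hD d).mp d.2
  let fDL : D →+* L := fDK.codRestrict L hfDK_mem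
  have hfDL_inj : Function.Injective fDL := by
    intro a b hab
    have h1 : algebraMap S K (a : S) = algebraMap S K (b : S) := congrArg Subtype.val hab
    exact Subtype.ext (hι h1)
  have hLK_AL : (algebraMap L K).comp fAL = algebraMap A K := RingHom.ext fun a => rfl
  have hLK_DL : (algebraMap L K).comp fDL = fDK := RingHom.ext fun d => rfl
  have hASK : (algebraMap S K).comp (algebraMap A S) = algebraMap A K :=
    (IsScalarTower.algebraMap_eq A S K).symm
  -- integrality
  have hhK : (h.map fAL).eval₂ (algebraMap L K) (algebraMap S K ζ) = 0 := by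
    rw [Polynomial.eval₂_map, hLK_AL, ← hASK, ← Polynomial.hom_eval₂]
    have hz : Polynomial.eval₂ (algebraMap A S) ζ h = 0 := by
      rw [← Polynomial.aeval_def]; exact hζ
    rw [hz, map_zero]
  have hint : IsIntegral L (algebraMap S K ζ) := ⟨h.map fAL, hm.map _, hhK⟩
  have hPm : (minpoly L (algebraMap S K ζ)).Monic := minpoly.monic hint
  have hPdvd : minpoly L (algebraMap S K ζ) ∣ h.map fAL :=
    minpoly.dvd L _ (by rw [Polynomial.aeval_def]; exact hhK)
  have hPKm : ((minpoly L (algebraMap S K ζ)).map (algebraMap L K)).Monic := hPm.map _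
  have hPKdvd : (minpoly L (algebraMap S K ζ)).map (algebraMap L K) ∣
      (h.map (algebraMap A S)).map (algebraMap S K) := by
    have h1 : (h.map (algebraMap A S)).map (algebraMap S K) =
        (h.map fAL).map (algebraMap L K) := by
      rw [Polynomial.map_map, Polynomial.map_map, hLK_AL, hASK]
    rw [h1]
    exact Polynomial.map_dvd _ hPdvd
  have hsplit := splits_map_of_separable hSh h hm hsep
  have hPKcoeff : ∀ n, ((minpoly L (algebraMap S K ζ)).map (algebraMap L K)).coeff n ∈
      Set.range fDK := by
    intro n
    obtain ⟨d, hd⟩ := coeff_mem_range_of_dvd hι (h.map (algebraMap A S)) (hm.map _) hsplit _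
      hPKm hPKdvd n
    have hdL : algebraMap S K d ∈ L := by
      rw [hd, Polynomial.coeff_map]
      exact ((minpoly L (algebraMap S K ζ)).coeff n).2
    exact ⟨⟨d, (hD d).mpr hdL⟩, hd⟩
  obtain ⟨PD, hPDmap, hPDdeg, hPDm⟩ := Polynomial.lifts_and_natDegree_eq_and_monic
    ((Polynomial.lifts_iff_coeff_lifts _).mpr hPKcoeff) hPKm
  have hr : PD.natDegree = (minpoly L (algebraMap S K ζ)).natDegree := by
    rw [hPDdeg, hPm.natDegree_map]
  have hrpos : 0 < PD.natDegree := by
    rw [hr]; exact minpoly.natDegree_pos hint
  have hPD1 : PD ≠ 1 := by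
    intro h1
    rw [h1, Polynomial.natDegree_one] at hrpos
    exact lt_irrefl _ hrpos
  have hPDζ : PD.eval₂ fDS ζ = 0 := by
    apply hι
    rw [map_zero, Polynomial.hom_eval₂]
    show PD.eval₂ fDK (algebraMap S K ζ) = 0
    rw [← Polynomial.eval_map, hPDmap, Polynomial.eval_map]
    have h1 := minpoly.aeval L (algebraMap S K ζ)
    rwa [Polynomial.aeval_def] at h1
  -- write x via ζ
  have hxE : (x : S) ∈ Algebra.adjoin A {ζ} := hDE x x.2
  rw [Algebra.adjoin_singleton_eq_range_aeval] at hxE
  obtain ⟨q₀, hq₀⟩ := hxE
  have hh1 : h ≠ 1 := by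
    intro h1
    apply hirr.not_isUnit
    rw [h1, Polynomial.map_one]
    exact isUnit_one
  have hqdeg : (q₀ %ₘ h).natDegree < h.natDegree := Polynomial.natDegree_modByMonic_lt q₀ hm hh1
  have hqx : aeval ζ (q₀ %ₘ h) = (x : S) := by
    rw [Polynomial.aeval_modByMonic_eq_self_of_root hζ]
    exact hq₀
  have hq0 : (q₀ %ₘ h).map (residue A) = 0 :=
    map_residue_eq_zero_of_aeval_mem h hm hirr ζ hζ _ hqdeg (by rw [hqx]; exact hx)
  -- coefficients of q in m_A
  have hqI : ((q₀ %ₘ h).map (algebraMap A D)).map
      (Ideal.Quotient.mk (Ideal.map (algebraMap A D) (maximalIdeal A))) = 0 := by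
    ext n
    rw [Polynomial.coeff_map, Polynomial.coeff_map, Polynomial.coeff_zero,
      Ideal.Quotient.eq_zero_iff_mem]
    apply Ideal.mem_map_of_mem
    have h1 := congrArg (fun p => p.coeff n) hq0
    simp only [Polynomial.coeff_map, Polynomial.coeff_zero] at h1
    exact (residue_eq_zero_iff _).mp h1
  have hRI : (((q₀ %ₘ h).map (algebraMap A D)) %ₘ PD).map
      (Ideal.Quotient.mk (Ideal.map (algebraMap A D) (maximalIdeal A))) = 0 := by
    rw [Polynomial.map_modByMonic _ hPDm, hqI, Polynomial.zero_modByMonic]
  have hRdeg : (((q₀ %ₘ h).map (algebraMap A D)) %ₘ PD).natDegree < PD.natDegree :=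
    Polynomial.natDegree_modByMonic_lt _ hPDm hPD1
  have hRζ : (((q₀ %ₘ h).map (algebraMap A D)) %ₘ PD).eval₂ fDS ζ = (x : S) := by
    rw [Polynomial.eval₂_modByMonic_eq_self_of_root hPDζ, Polynomial.eval₂_map]
    have h1 : fDS.comp (algebraMap A D) = algebraMap A S :=
      (IsScalarTower.algebraMap_eq A D S).symm
    rw [h1, ← Polynomial.aeval_def]
    exact hqx
  -- T := R - C x
  have hTdeg : ((((q₀ %ₘ h).map (algebraMap A D)) %ₘ PD) - Polynomial.C x).natDegree <
      PD.natDegree := by
    refine lt_of_le_of_lt (Polynomial.natDegree_sub_le _ _) (max_lt hRdeg ?_)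
    rw [Polynomial.natDegree_C]
    exact hrpos
  have hTζ : ((((q₀ %ₘ h).map (algebraMap A D)) %ₘ PD) - Polynomial.C x).eval₂ fDS ζ = 0 := by
    rw [Polynomial.eval₂_sub, hRζ, Polynomial.eval₂_C]
    exact sub_self _
  have hTL : aeval (algebraMap S K ζ)
      (((((q₀ %ₘ h).map (algebraMap A D)) %ₘ PD) - Polynomial.C x).map fDL) = 0 := by
    rw [Polynomial.aeval_def, Polynomial.eval₂_map, hLK_DL]
    show Polynomial.eval₂ ((algebraMap S K).comp fDS) (algebraMap S K ζ) _ = 0
    rw [← Polynomial.hom_eval₂, hTζ, map_zero]
  have hTL0 : ((((q₀ %ₘ h).map (algebraMap A D)) %ₘ PD) - Polynomial.C x).map fDL = 0 := by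
    by_contra hne
    have h1 := minpoly.degree_le_of_ne_zero L (algebraMap S K ζ) hne hTL
    have h2 := Polynomial.natDegree_le_natDegree h1
    have h3 : (((((q₀ %ₘ h).map (algebraMap A D)) %ₘ PD) - Polynomial.C x).map fDL).natDegree ≤
        ((((q₀ %ₘ h).map (algebraMap A D)) %ₘ PD) - Polynomial.C x).natDegree :=
      Polynomial.natDegree_map_le
    omega
  have hT0 : (((q₀ %ₘ h).map (algebraMap A D)) %ₘ PD) - Polynomial.C x = 0 := by
    apply Polynomial.map_injective fDL hfDL_inj
    rw [hTL0, Polynomial.map_zero]
  have hRx : ((q₀ %ₘ h).map (algebraMap A D)) %ₘ PD = Polynomial.C x := sub_eq_zero.mp hT0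
  have hfin : Ideal.Quotient.mk (Ideal.map (algebraMap A D) (maximalIdeal A)) x = 0 := by
    have h1 := congrArg (fun p => p.coeff 0) hRI
    simp only [Polynomial.coeff_map, Polynomial.coeff_zero] at h1
    rw [hRx, Polynomial.coeff_C_zero] at h1
    exact h1
  exact Ideal.Quotient.eq_zero_iff_mem.mp hfin

end Crux

end Groth.Agent.Helper7.InterField
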