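import Mathlib
import Groth.Prelude
import Groth.Agent.Lib.Helper7.NormInt.Main
import Groth.Agent.Lib.Helper7.HensQFLoc
import Groth.Agent.Lib.Helper7.Hensel.FiniteLocal
import Groth.Agent.Lib.Helper7.InterField.Crux

/-!
# Finite étale local stages of the strict henselization of a henselian local ring

Every finite subset of the strict henselization `S` (a domain) of a henselian Noetherian local
ring `A` lies in the image of a finite étale local `A`-algebra `E` which is saturated in `S`;
and such an `E` is generated by a single Hensel root.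
-/

set_option linter.style.haveILetI false
set_option linter.unusedVariables false
set_option linter.unusedSectionVars false
set_option autoImplicit false
set_option backward.isDefEq.respectTransparency.types false
set_option backward.isDefEq.respectTransparency false
set_option synthInstance.maxHeartbeats 400000
set_option maxHeartbeats 1600000

open Polynomial IsLocalRing TensorProduct

namespace Groth.Agent.Helper7.InterField

universe u

open Groth.Agent.Helper7.SHens Groth.Agent.Lead.GUnib Groth.Agent.Helper7.NormInt

theorem exists_stage (A S : Type u) [CommRing A] [HenselianLocalRing A] [IsNoetherianRing A]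
    [CommRing S] [IsLocalRing S] [IsDomain S] [Algebra A S]
    [IsLocalHom (algebraMap A S)] [Hensel.IsStrictHenselization A S] (s : Finset S) :
    ∃ (E : Type u) (_ : CommRing E) (_ : IsLocalRing E) (_ : Algebra A E) (φ : E →ₐ[A] S),
      Module.Finite A E ∧ Algebra.Etale A E ∧ Function.Injective φ ∧
      (∀ t, IsUnit (φ t) → IsUnit t) ∧ (∀ c ∈ s, ∃ x, φ x = c) ∧
      (∀ (x : S) (a b : E), b ≠ 0 → x * φ b = φ a → ∃ t, a = t * b ∧ φ t = x) := by
  classical
  obtain ⟨e, -⟩ := exists_algEquiv_Model A S
  obtain ⟨U, hU⟩ := exists_rep_finset' (s.image e)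
  -- the map `φ`
  have hφA : ∀ a : A, ((e.symm : Model A S →+* S).comp (locMap U)).toFun (algebraMap A U.Loc a) =
      algebraMap A S a := by
    intro a
    show e.symm (locMap U (algebraMap A U.Loc a)) = _
    rw [IsScalarTower.algebraMap_apply A U.Ring U.Loc, locMap_algebraMap, ι_algebraMap,
      e.symm.commutes]
  let φ : U.Loc →ₐ[A] S :=
    { ((e.symm : Model A S →+* S).comp (locMap U)) with commutes' := hφA }
  have hφ : ∀ t, φ t = e.symm (locMap U t) := fun _ => rfl
  have hφinj : Function.Injective φ := fun x y h => locMap_injective U (e.symm.injective h)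
  have hφunit : ∀ t, IsUnit (φ t) → IsUnit t := by
    intro t ht
    haveI := isLocalHom_locMap U
    have h1 : IsUnit (locMap U t) := by
      have h2 := ht.map e
      rwa [hφ, e.apply_symm_apply] at h2
    exact isUnit_of_map_unit (locMap U) t h1
  haveI hlocA : IsLocalHom (algebraMap A U.Loc) := by
    constructor
    intro a ha
    have h1 : IsUnit (φ (algebraMap A U.Loc a)) := ha.map φ
    rw [φ.commutes] at h1
    exact isUnit_of_map_unit (algebraMap A S) a h1
  have hφsat : ∀ (x : S) (a b : U.Loc), b ≠ 0 → x * φ b = φ a → ∃ t, a = t * b ∧ φ t = x := by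
    intro x a b hb hx
    letI : Algebra U.Loc (Model A S) := (locMap U).toAlgebra
    haveI : Module.FaithfullyFlat U.Loc (Model A S) := faithfullyFlat_locMap' U
    have h1 : locMap U a = e x * locMap U b := by
      have h2 := congrArg e hx
      rw [map_mul, hφ, hφ, e.apply_symm_apply, e.apply_symm_apply] at h2
      exact h2.symm
    have h3 : locMap U a ∈ (Ideal.span {b}).map (algebraMap U.Loc (Model A S)) := by
      rw [h1]
      exact Ideal.mul_mem_left _ _ (Ideal.mem_map_of_mem _ (Ideal.mem_span_singleton_self b))
    have h2 : a ∈ ((Ideal.span {b}).map (algebraMap U.Loc (Model A S))).comap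
        (algebraMap U.Loc (Model A S)) := h3
    rw [Ideal.comap_map_eq_self_of_faithfullyFlat] at h2
    obtain ⟨t, ht⟩ := Ideal.mem_span_singleton'.mp h2
    refine ⟨t, ht.symm, ?_⟩
    have h4 : φ t * φ b = x * φ b := by rw [← map_mul, ht, hx]
    have hb' : φ b ≠ 0 := fun h0 => hb (hφinj (h0.trans (map_zero φ).symm))
    exact mul_right_cancel₀ hb' h4
  -- finiteness
  have hcomap : U.q.comap (algebraMap A U.Ring) = maximalIdeal A := by
    have h1 : (maximalIdeal U.Loc).comap (algebraMap A U.Loc) = maximalIdeal A :=
      ((IsLocalRing.local_hom_TFAE (algebraMap A U.Loc)).out 0 4).mp hlocA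
    have h2 : (maximalIdeal U.Loc).comap (algebraMap U.Ring U.Loc) = U.q :=
      IsLocalization.AtPrime.under_maximalIdeal U.Loc U.q
    rw [← h2, Ideal.comap_comap, ← IsScalarTower.algebraMap_eq A U.Ring U.Loc]
    exact h1
  have hlies : U.q.LiesOver (maximalIdeal A) := ⟨hcomap.symm⟩
  have hqf : Algebra.QuasiFiniteAt A U.q := inferInstance
  haveI hfin : Module.Finite A U.Loc :=
    Groth.Agent.Helper7.HensQFLoc.finite_localization_of_henselian A U.Ring U.q hlies hqf
  haveI : Algebra.FormallyEtale U.Ring U.Loc :=
    Algebra.FormallyEtale.of_isLocalization U.q.primeCompl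
  haveI : Algebra.FormallyEtale A U.Loc := Algebra.FormallyEtale.comp A U.Ring U.Loc
  haveI : Algebra.FiniteType A U.Loc := inferInstance
  haveI : Algebra.FinitePresentation A U.Loc :=
    Algebra.FinitePresentation.of_finiteType.mp inferInstance
  haveI het : Algebra.Etale A U.Loc := { }
  refine ⟨U.Loc, inferInstance, inferInstance, inferInstance, φ, hfin, het, hφinj, hφunit, ?_,
    hφsat⟩
  intro c hc
  obtain ⟨x, hx⟩ := hU (e c) (Finset.mem_image_of_mem e hc)
  refine ⟨algebraMap U.Ring U.Loc x, ?_⟩
  rw [hφ, locMap_algebraMap, hx, e.symm_apply_apply]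

theorem exists_prim (A E : Type u) [CommRing A] [HenselianLocalRing A] [CommRing E]
    [IsLocalRing E] [Algebra A E] [IsLocalHom (algebraMap A E)] [Module.Finite A E]
    [Algebra.Etale A E] :
    ∃ (h : A[X]) (ζ : E), h.Monic ∧ aeval ζ h = 0 ∧ Irreducible (h.map (residue A)) ∧
      (h.map (residue A)).Separable ∧ Algebra.adjoin A {ζ} = ⊤ := by
  classical
  haveI : Algebra.FormallyUnramified A E := inferInstance
  haveI : Algebra.EssFiniteType A E := inferInstance
  have hmax : (maximalIdeal A).map (algebraMap A E) = maximalIdeal E :=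
    Algebra.FormallyUnramified.map_maximalIdeal
  obtain ⟨α, hα⟩ := Field.exists_primitive_element (ResidueField A) (ResidueField E)
  have hint : IsIntegral (ResidueField A) α := Algebra.IsIntegral.isIntegral α
  have hgbm : (minpoly (ResidueField A) α).Monic := minpoly.monic hint
  have hgbs : (minpoly (ResidueField A) α).Separable :=
    Algebra.IsSeparable.isSeparable (ResidueField A) α
  obtain ⟨g, hg, hgdeg, hgm⟩ := Polynomial.lifts_and_natDegree_eq_and_monic
    ((Polynomial.mem_lifts _).mpr (Polynomial.map_surjective _ IsLocalRing.residue_surjective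
      (minpoly (ResidueField A) α))) hgbm
  have hEh : HenselianLocalRing E := Groth.Agent.Helper7.Hensel.henselianLocalRing_of_finite A E
  obtain ⟨a₀, ha₀⟩ := IsLocalRing.residue_surjective α
  have hfm : (g.map (algebraMap A E)).Monic := hgm.map _
  have hfmap : (g.map (algebraMap A E)).map (residue E) =
      (minpoly (ResidueField A) α).map (algebraMap (ResidueField A) (ResidueField E)) := by
    rw [Polynomial.map_map, ← residue_comp, ← Polynomial.map_map, hg]
  have h1 : (g.map (algebraMap A E)).eval a₀ ∈ maximalIdeal E := by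
    rw [← residue_eq_zero_iff, residue_eval, hfmap, ha₀, Polynomial.eval_map,
      ← Polynomial.aeval_def]
    exact minpoly.aeval _ α
  have h2 : IsUnit ((g.map (algebraMap A E)).derivative.eval a₀) := by
    rw [← residue_ne_zero_iff_isUnit, residue_eval, ← Polynomial.derivative_map, hfmap,
      Polynomial.derivative_map, ha₀, Polynomial.eval_map, ← Polynomial.aeval_def]
    exact hgbs.aeval_derivative_ne_zero (minpoly.aeval _ α)
  obtain ⟨ζ, hζroot, hζsub⟩ := hEh.is_henselian (g.map (algebraMap A E)) hfm a₀ h1 h2
  have hζres : residue E ζ = α := by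
    have h3 : residue E (ζ - a₀) = 0 := (residue_eq_zero_iff _).mpr hζsub
    rw [map_sub, sub_eq_zero] at h3
    rw [h3, ha₀]
  have hζ0 : aeval ζ g = 0 := by
    have h3 : (g.map (algebraMap A E)).eval ζ = 0 := hζroot
    rwa [Polynomial.eval_map, ← Polynomial.aeval_def] at h3
  refine ⟨g, ζ, hgm, hζ0, ?_, ?_, ?_⟩
  · rw [hg]; exact minpoly.irreducible hint
  · rw [hg]; exact hgbs
  · -- Nakayama
    have hadjκ : Algebra.adjoin (ResidueField A) {α} = ⊤ := by
      have h3 := IntermediateField.adjoin_simple_toSubalgebra_of_isAlgebraic hint.isAlgebraic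
      rw [hα] at h3
      rw [← h3]
      rfl
    have key : (⊤ : Submodule A E) ≤ Subalgebra.toSubmodule (Algebra.adjoin A {ζ}) ⊔
        (maximalIdeal A) • (⊤ : Submodule A E) := by
      intro y _
      have hy : residue E y ∈ Algebra.adjoin (ResidueField A) {α} := by
        rw [hadjκ]; trivial
      rw [Algebra.adjoin_singleton_eq_range_aeval] at hy
      obtain ⟨pb, hpb⟩ := hy
      obtain ⟨p, rfl⟩ := Polynomial.map_surjective _ IsLocalRing.residue_surjective pb
      have hdiff : y - aeval ζ p ∈ maximalIdeal E := by
        rw [← residue_eq_zero_iff, map_sub, residue_aeval, hζres]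
        have hpb' : aeval α (p.map (residue A)) = residue E y := hpb
        rw [hpb']
        exact sub_self _
      have h3 : y - aeval ζ p ∈ (maximalIdeal A) • (⊤ : Submodule A E) := by
        rw [Ideal.smul_top_eq_map, hmax]
        exact hdiff
      have h4 : aeval ζ p ∈ Subalgebra.toSubmodule (Algebra.adjoin A {ζ}) := by
        show aeval ζ p ∈ Algebra.adjoin A {ζ}
        rw [Algebra.adjoin_singleton_eq_range_aeval]
        exact ⟨p, rfl⟩
      have h5 : y = aeval ζ p + (y - aeval ζ p) := by ring
      rw [h5]
      exact Submodule.add_mem_sup h4 h3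
    have hle := Submodule.le_of_le_smul_of_le_jacobson_bot (Module.Finite.fg_top)
      (IsLocalRing.maximalIdeal_le_jacobson ⊥) key
    exact Algebra.toSubmodule_eq_top.mp (eq_top_iff.mpr hle)

end Groth.Agent.Helper7.InterField
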