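import Mathlib
import Groth.Prelude
import Groth.Agent.Lib.Helper7.InterField.Crux
import Groth.Agent.Lib.Helper7.InterField.Stage
import Groth.Agent.Lib.Lead.EssEt1

/-!
# `S ∩ L` is essentially étale

For an excellent (only Noetherian is used) henselian local domain `A` whose strict henselization
`S` is a domain and a subfield `L` of `Frac S` finitely generated over the image of `A`, the ring
`S ∩ L` is an essentially étale local `A`-algebra.
-/

set_option linter.style.haveILetI false
set_option linter.unusedVariables false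
set_option linter.unusedSectionVars false
set_option autoImplicit false
set_option backward.isDefEq.respectTransparency.types false
set_option backward.isDefEq.respectTransparency false
set_option synthInstance.maxHeartbeats 400000
set_option maxHeartbeats 1600000

open Polynomial IsLocalRing TensorProduct

namespace Groth.Agent.Helper7.InterField

universe u

theorem main_aux (A S : Type u) [CommRing A] [HenselianLocalRing A] [IsDomain A]
    [IsNoetherianRing A]
    [CommRing S] [IsLocalRing S] [Algebra A S] [IsLocalHom (algebraMap A S)]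
    [Hensel.IsStrictHenselization A S] [IsDomain S] (t : Finset (FractionRing S))
    (L : Subfield (FractionRing S))
    (hL : L = Subfield.closure
      (Set.range (algebraMap A (FractionRing S)) ∪ (t : Set (FractionRing S)))) :
    ∃ D : Subalgebra A S, (D : Set S) = (algebraMap S (FractionRing S)) ⁻¹'
        (L : Set (FractionRing S)) ∧
      ∃ _ : IsLocalRing D, IsLocalHom (algebraMap D S) ∧ EGA4loc.IsEssentiallyEtale A D := by
  classical
  have hSh : HenselianLocalRing S := Hensel.IsStrictHenselization.henselian (R := A) (S := S)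
  haveI hSsep : IsSepClosed (ResidueField S) :=
    (Hensel.IsStrictHenselization.isSepClosure (R := A) (S := S)).sep_closed
  have hι : Function.Injective (algebraMap S (FractionRing S)) :=
    IsFractionRing.injective S (FractionRing S)
  have hAL : ∀ a : A, algebraMap A (FractionRing S) a ∈ L := by
    intro a
    rw [hL]
    exact Subfield.subset_closure (Or.inl ⟨a, rfl⟩)
  have hASK : ∀ a : A, algebraMap S (FractionRing S) (algebraMap A S a) =
      algebraMap A (FractionRing S) a :=
    fun a => (IsScalarTower.algebraMap_apply A S (FractionRing S) a).symm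
  -- D
  let D : Subalgebra A S :=
    { carrier := {x | algebraMap S (FractionRing S) x ∈ L}
      mul_mem' := fun {a b} ha hb => by
        show algebraMap S (FractionRing S) (a * b) ∈ L
        rw [map_mul]; exact mul_mem ha hb
      one_mem' := by
        show algebraMap S (FractionRing S) 1 ∈ L
        rw [map_one]; exact one_mem L
      add_mem' := fun {a b} ha hb => by
        show algebraMap S (FractionRing S) (a + b) ∈ L
        rw [map_add]; exact add_mem ha hb
      zero_mem' := by
        show algebraMap S (FractionRing S) 0 ∈ L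
        rw [map_zero]; exact zero_mem L
      algebraMap_mem' := fun a => by
        show algebraMap S (FractionRing S) (algebraMap A S a) ∈ L
        rw [hASK]; exact hAL a }
  have hD : ∀ x : S, x ∈ D ↔ algebraMap S (FractionRing S) x ∈ L := fun x => Iff.rfl
  refine ⟨D, rfl, ?_⟩
  -- units
  have hunit : ∀ d : D, IsUnit (d : S) → IsUnit d := by
    intro d hd
    obtain ⟨u, hu⟩ := hd.exists_right_inv
    have huL : algebraMap S (FractionRing S) u ∈ L := by
      have h1 : algebraMap S (FractionRing S) (d : S) * algebraMap S (FractionRing S) u = 1 := by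
        rw [← map_mul, hu, map_one]
      have h2 : algebraMap S (FractionRing S) u = (algebraMap S (FractionRing S) (d : S))⁻¹ :=
        eq_inv_of_mul_eq_one_right h1
      rw [h2]
      exact inv_mem ((hD d).mp d.2)
    exact isUnit_iff_exists_inv.mpr ⟨⟨u, (hD u).mpr huL⟩, Subtype.ext hu⟩
  haveI hDnt : Nontrivial D := ⟨⟨0, 1, fun h => zero_ne_one (α := S) (congrArg Subtype.val h)⟩⟩
  haveI hDloc : IsLocalRing D := by
    apply IsLocalRing.of_nonunits_add
    intro a b ha hb
    have ha' : (a : S) ∈ maximalIdeal S := by
      rw [mem_maximalIdeal, mem_nonunits_iff]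
      exact fun hu => ha (hunit a hu)
    have hb' : (b : S) ∈ maximalIdeal S := by
      rw [mem_maximalIdeal, mem_nonunits_iff]
      exact fun hu => hb (hunit b hu)
    have hab : ((a + b : D) : S) ∈ maximalIdeal S := Ideal.add_mem _ ha' hb'
    intro hu
    have h1 : IsUnit ((a + b : D) : S) := hu.map (algebraMap D S)
    exact (mem_maximalIdeal _).mp hab h1
  haveI hDS : IsLocalHom (algebraMap D S) := ⟨fun d hd => hunit d hd⟩
  -- numerators and denominators
  have hfrac : ∀ τ : FractionRing S, ∃ p : S × S, p.2 ≠ 0 ∧
      τ * algebraMap S (FractionRing S) p.2 = algebraMap S (FractionRing S) p.1 := by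
    intro τ
    obtain ⟨⟨a, b⟩, hab⟩ := IsLocalization.surj (nonZeroDivisors S) τ
    exact ⟨(a, b), nonZeroDivisors.ne_zero b.2, hab⟩
  choose nd hnd0 hnd using hfrac
  obtain ⟨E, _, _, _, φ, hEfin, hEet, hφinj, hφunit, hφs, hφsat⟩ :=
    exists_stage A S (t.image (fun τ => (nd τ).1) ∪ t.image (fun τ => (nd τ).2))
  haveI := hEfin
  haveI := hEet
  haveI hAE : IsLocalHom (algebraMap A E) := by
    constructor
    intro a ha
    have h1 : IsUnit (φ (algebraMap A E a)) := ha.map φ
    rw [φ.commutes] at h1
    exact isUnit_of_map_unit (algebraMap A S) a h1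
  obtain ⟨h, ζE, hm, hζE, hirr, hsep, hadj⟩ := exists_prim A E
  have hζ : aeval (φ ζE) h = 0 := by
    rw [Polynomial.aeval_algHom_apply, hζE, map_zero]
  have hrange : Algebra.adjoin A {φ ζE} = φ.range := by
    rw [← Set.image_singleton, ← AlgHom.map_adjoin, hadj, Algebra.map_top]
  -- fractions
  let g : E →+* FractionRing S := (algebraMap S (FractionRing S)).comp (φ : E →+* S)
  have hgA : ∀ a : A, g (algebraMap A E a) = algebraMap A (FractionRing S) a := by
    intro a
    show algebraMap S (FractionRing S) (φ (algebraMap A E a)) = _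
    rw [φ.commutes, hASK]
  have hQ : ∀ y, y ∈ Subfield.closure
      (Set.range (algebraMap A (FractionRing S)) ∪ (t : Set (FractionRing S))) →
      ∃ a b : E, g b ≠ 0 ∧ y * g b = g a := by
    intro y hy
    induction hy using Subfield.closure_induction with
    | mem y hy =>
      rcases hy with ⟨a, rfl⟩ | hy
      · exact ⟨algebraMap A E a, 1, by rw [map_one]; exact one_ne_zero,
          by rw [map_one, mul_one, hgA]⟩
      · have hyt : y ∈ t := hy
        obtain ⟨a, ha⟩ := hφs (nd y).1
          (Finset.mem_union_left _ (Finset.mem_image_of_mem _ hyt))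
        obtain ⟨b, hb⟩ := hφs (nd y).2
          (Finset.mem_union_right _ (Finset.mem_image_of_mem _ hyt))
        refine ⟨a, b, ?_, ?_⟩
        · show algebraMap S (FractionRing S) (φ b) ≠ 0
          rw [hb]
          exact fun h0 => hnd0 y (hι (h0.trans (map_zero _).symm))
        · show y * algebraMap S (FractionRing S) (φ b) = algebraMap S (FractionRing S) (φ a)
          rw [ha, hb]
          exact hnd y
    | one => exact ⟨1, 1, by rw [map_one]; exact one_ne_zero, by rw [map_one, mul_one]⟩
    | add y₁ y₂ _ _ h₁ h₂ =>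
      obtain ⟨a₁, b₁, hb₁, e₁⟩ := h₁
      obtain ⟨a₂, b₂, hb₂, e₂⟩ := h₂
      refine ⟨a₁ * b₂ + a₂ * b₁, b₁ * b₂, by rw [map_mul]; exact mul_ne_zero hb₁ hb₂, ?_⟩
      rw [map_mul, map_add, map_mul, map_mul, ← e₁, ← e₂]
      ring
    | neg y _ h₁ =>
      obtain ⟨a₁, b₁, hb₁, e₁⟩ := h₁
      exact ⟨-a₁, b₁, hb₁, by rw [map_neg, ← e₁]; ring⟩
    | inv y _ h₁ =>
      obtain ⟨a₁, b₁, hb₁, e₁⟩ := h₁
      by_cases hy0 : y = 0
      · exact ⟨0, 1, by rw [map_one]; exact one_ne_zero,
          by rw [hy0, inv_zero, zero_mul, map_zero]⟩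
      · have ha₁ : g a₁ ≠ 0 := by
          rw [← e₁]
          exact mul_ne_zero hy0 hb₁
        refine ⟨b₁, a₁, ha₁, ?_⟩
        rw [← e₁, ← mul_assoc, inv_mul_cancel₀ hy0, one_mul]
    | mul y₁ y₂ _ _ h₁ h₂ =>
      obtain ⟨a₁, b₁, hb₁, e₁⟩ := h₁
      obtain ⟨a₂, b₂, hb₂, e₂⟩ := h₂
      refine ⟨a₁ * a₂, b₁ * b₂, by rw [map_mul]; exact mul_ne_zero hb₁ hb₂, ?_⟩
      rw [map_mul, map_mul, ← e₁, ← e₂]
      ring
  have hDE : ∀ x ∈ D, x ∈ Algebra.adjoin A {φ ζE} := by
    intro x hx
    rw [hrange]
    have hxL : algebraMap S (FractionRing S) x ∈ Subfield.closure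
        (Set.range (algebraMap A (FractionRing S)) ∪ (t : Set (FractionRing S))) := by
      rw [← hL]
      exact (hD x).mp hx
    obtain ⟨a, b, hb, hab⟩ := hQ _ hxL
    have hb0 : b ≠ 0 := fun h0 => hb (by rw [h0, map_zero])
    have h1 : x * φ b = φ a := by
      apply hι
      rw [map_mul]
      exact hab
    obtain ⟨t', -, ht'⟩ := hφsat x a b hb0 h1
    exact ⟨t', ht'⟩
  -- finiteness of D
  haveI hEN : IsNoetherian A E := isNoetherian_of_isNoetherianRing_of_finite A E
  have hDfg : (Subalgebra.toSubmodule D).FG := by
    have h1 : ((Subalgebra.toSubmodule D).comap φ.toLinearMap).FG := IsNoetherian.noetherian _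
    have h2 : ((Subalgebra.toSubmodule D).comap φ.toLinearMap).map φ.toLinearMap =
        Subalgebra.toSubmodule D := by
      rw [Submodule.map_comap_eq]
      apply inf_eq_right.mpr
      intro x hx
      have h3 := hDE x hx
      rw [hrange] at h3
      obtain ⟨y, hy⟩ := h3
      exact ⟨y, hy⟩
    rw [← h2]
    exact h1.map _
  haveI hDfin : Module.Finite A D := ⟨(Submodule.fg_top _).mpr hDfg⟩
  haveI : Algebra.EssFiniteType A D := inferInstance
  have hmD : Ideal.map (algebraMap A D) (maximalIdeal A) = maximalIdeal D := by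
    apply le_antisymm
    · rw [Ideal.map_le_iff_le_comap]
      intro a ha
      rw [Ideal.mem_comap, mem_maximalIdeal, mem_nonunits_iff]
      intro hu
      have h1 : IsUnit (algebraMap D S (algebraMap A D a)) := hu.map _
      rw [← IsScalarTower.algebraMap_apply] at h1
      exact (mem_maximalIdeal a).mp ha (isUnit_of_map_unit (algebraMap A S) a h1)
    · intro x hx
      have hxS : (x : S) ∈ maximalIdeal S := by
        rw [mem_maximalIdeal, mem_nonunits_iff]
        intro hu
        exact (mem_maximalIdeal x).mp hx (hunit x hu)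
      exact crux hSh L hAL D hD h hm hirr hsep (φ ζE) hζ hDE x hxS
  exact ⟨hDloc, hDS, Groth.Agent.Lead.EssEt.isEssentiallyEtale_of_essFiniteType A S D hmD⟩

theorem main (A S : Type u) [CommRing A] [HenselianLocalRing A] [IsDomain A]
    (hA : EGA4.IsExcellent A)
    [CommRing S] [IsLocalRing S] [Algebra A S] [IsLocalHom (algebraMap A S)]
    [Hensel.IsStrictHenselization A S] [IsDomain S] (t : Finset (FractionRing S)) :
    ∃ D : Subalgebra A S, (D : Set S) = (algebraMap S (FractionRing S)) ⁻¹'
        (Subfield.closure (Set.range (algebraMap A (FractionRing S)) ∪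
          (t : Set (FractionRing S))) : Set (FractionRing S)) ∧
      ∃ _ : IsLocalRing D, IsLocalHom (algebraMap D S) ∧ EGA4loc.IsEssentiallyEtale A D := by
  haveI : IsNoetherianRing A := hA.1
  exact main_aux A S t _ rfl

end Groth.Agent.Helper7.InterField
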