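import Mathlib
import Groth.Prelude
import Groth.Agent.Lib.Helper7.InterField.Crux2
import Groth.Agent.Lib.Helper7.InterField.Stage
import Groth.Agent.Lib.Lead.EssEt1

/-!
# Subfield intersections with a quotient domain of a strict henselization

`A` henselian Noetherian local, `S` a strict henselization, `π : S → T` a surjection onto a domain
with finitely generated kernel (e.g. `T = S ⧸ Q`), `L` a subfield of `Frac T` finitely generated over
the image of `A`.  Then `D' = T ∩ L` is a finite local `A`-algebra with `m_A D' = m_{D'}`, separable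
residue field, fraction field `L`, and it lies in the image of a finite étale local subalgebra of
`S` which may be chosen to contain any given finite subset of `S`.
-/

set_option linter.style.haveILetI false
set_option linter.unusedVariables false
set_option linter.unusedSectionVars false
set_option linter.overlappingInstances false
set_option autoImplicit false
set_option backward.isDefEq.respectTransparency.types false
set_option backward.isDefEq.respectTransparency false
set_option synthInstance.maxHeartbeats 400000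
set_option maxHeartbeats 1600000

open Polynomial IsLocalRing TensorProduct

namespace Groth.Agent.Helper7.InterField

universe u

open Groth.Agent.Helper7.SHens Groth.Agent.Lead.GUnib Groth.Agent.Helper7.NormInt

theorem exists_stage' (A S : Type u) [CommRing A] [HenselianLocalRing A] [IsNoetherianRing A]
    [CommRing S] [IsLocalRing S] [Algebra A S]
    [IsLocalHom (algebraMap A S)] [Hensel.IsStrictHenselization A S] (s : Finset S) :
    ∃ (E : Type u) (_ : CommRing E) (_ : IsLocalRing E) (_ : Algebra A E) (φ : E →ₐ[A] S),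
      Module.Finite A E ∧ Algebra.Etale A E ∧ Function.Injective φ ∧
      (∀ t, IsUnit (φ t) → IsUnit t) ∧ (∀ c ∈ s, ∃ x, φ x = c) ∧
      (∀ (I : Ideal E) (a : E), φ a ∈ I.map (φ : E →+* S) → a ∈ I) := by
  classical
  obtain ⟨e, -⟩ := exists_algEquiv_Model A S
  obtain ⟨U, hU⟩ := exists_rep_finset' (s.image e)
  have hφA : ∀ a : A, ((e.symm : Model A S →+* S).comp (locMap U)).toFun (algebraMap A U.Loc a) =
      algebraMap A S a := by
    intro a
    show e.symm (locMap U (algebraMap A U.Loc a)) = _
    rw [IsScalarTower.algebraMap_apply A U.Ring U.Loc, locMap_algebraMap, ι_algebraMap,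
      e.symm.commutes]
  let φ : U.Loc →ₐ[A] S :=
    { ((e.symm : Model A S →+* S).comp (locMap U)) with commutes' := hφA }
  have hφ : ∀ t, φ t = e.symm (locMap U t) := fun _ => rfl
  have hφinj : Function.Injective φ := fun x y h => locMap_injective U (e.symm.injective h)
  have hφunit : ∀ t, IsUnit (φ t) → IsUnit t := by
    intro t ht
    haveI := isLocalHom_locMap U
    have h1 : IsUnit (locMap U t) := by
      have h2 := ht.map e
      rwa [hφ, e.apply_symm_apply] at h2
    exact isUnit_of_map_unit (locMap U) t h1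
  haveI hlocA : IsLocalHom (algebraMap A U.Loc) := by
    constructor
    intro a ha
    have h1 : IsUnit (φ (algebraMap A U.Loc a)) := ha.map φ
    rw [φ.commutes] at h1
    exact isUnit_of_map_unit (algebraMap A S) a h1
  have hφff : ∀ (I : Ideal U.Loc) (a : U.Loc), φ a ∈ I.map (φ : U.Loc →+* S) → a ∈ I := by
    intro I a ha
    letI : Algebra U.Loc (Model A S) := (locMap U).toAlgebra
    haveI : Module.FaithfullyFlat U.Loc (Model A S) := faithfullyFlat_locMap' U
    have h1 : (e : S →+* Model A S) (φ a) ∈
        Ideal.map (e : S →+* Model A S) (I.map (φ : U.Loc →+* S)) :=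
      Ideal.mem_map_of_mem _ ha
    rw [Ideal.map_map] at h1
    have h2 : (e : S →+* Model A S).comp (φ : U.Loc →+* S) = locMap U :=
      RingHom.ext fun x => by
        show e (φ x) = locMap U x
        rw [hφ, e.apply_symm_apply]
    rw [h2] at h1
    have h3 : a ∈ (I.map (algebraMap U.Loc (Model A S))).comap
        (algebraMap U.Loc (Model A S)) := by
      show locMap U a ∈ I.map (locMap U)
      have h4 : (e : S →+* Model A S) (φ a) = locMap U a := by
        show e (φ a) = _
        rw [hφ, e.apply_symm_apply]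
      rw [← h4]
      exact h1
    rwa [Ideal.comap_map_eq_self_of_faithfullyFlat] at h3
  have hcomap : U.q.comap (algebraMap A U.Ring) = maximalIdeal A := by
    have h1 : (maximalIdeal U.Loc).comap (algebraMap A U.Loc) = maximalIdeal A :=
      ((IsLocalRing.local_hom_TFAE (algebraMap A U.Loc)).out 0 4).mp hlocA
    have h2 : (maximalIdeal U.Loc).comap (algebraMap U.Ring U.Loc) = U.q :=
      IsLocalization.AtPrime.under_maximalIdeal U.Loc U.q
    rw [← h2, Ideal.comap_comap, ← IsScalarTower.algebraMap_eq A U.Ring U.Loc]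
    exact h1
  have hlies : U.q.LiesOver (maximalIdeal A) := ⟨hcomap.symm⟩
  have hqf : Algebra.QuasiFiniteAt A U.q := inferInstance
  haveI hfin : Module.Finite A U.Loc :=
    Groth.Agent.Helper7.HensQFLoc.finite_localization_of_henselian A U.Ring U.q hlies hqf
  haveI : Algebra.FormallyEtale U.Ring U.Loc :=
    Algebra.FormallyEtale.of_isLocalization U.q.primeCompl
  haveI : Algebra.FormallyEtale A U.Loc := Algebra.FormallyEtale.comp A U.Ring U.Loc
  haveI : Algebra.FiniteType A U.Loc := inferInstance
  haveI : Algebra.FinitePresentation A U.Loc :=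
    Algebra.FinitePresentation.of_finiteType.mp inferInstance
  haveI het : Algebra.Etale A U.Loc := { }
  refine ⟨U.Loc, inferInstance, inferInstance, inferInstance, φ, hfin, het, hφinj, hφunit, ?_,
    hφff⟩
  intro c hc
  obtain ⟨x, hx⟩ := hU (e c) (Finset.mem_image_of_mem e hc)
  refine ⟨algebraMap U.Ring U.Loc x, ?_⟩
  rw [hφ, locMap_algebraMap, hx, e.symm_apply_apply]

/-- A finite étale local algebra with local structure map is essentially étale. -/
theorem isEssentiallyEtale_of_finite_etale_local (A E : Type u) [CommRing A] [IsLocalRing A]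
    [CommRing E] [IsLocalRing E] [Algebra A E] [IsLocalHom (algebraMap A E)] [Algebra.Etale A E] :
    EGA4loc.IsEssentiallyEtale A E := by
  have hcomap : (maximalIdeal E).comap (algebraMap A E) = maximalIdeal A :=
    ((IsLocalRing.local_hom_TFAE (algebraMap A E)).out 0 4).mp ‹IsLocalHom (algebraMap A E)›
  have H : (maximalIdeal E).primeCompl ≤ IsUnit.submonoid E := by
    intro x hx
    by_contra hu
    exact hx ((mem_maximalIdeal x).mpr hu)
  let e1 : E ≃ₐ[E] Localization.AtPrime (maximalIdeal E) :=
    IsLocalization.atUnits E (maximalIdeal E).primeCompl H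
  exact ⟨E, (inferInstance : CommRing E), (inferInstance : Algebra A E), maximalIdeal E,
    (inferInstance : (maximalIdeal E).IsPrime), (inferInstance : Algebra.Etale A E), hcomap,
    ⟨e1.restrictScalars A⟩⟩

set_option maxHeartbeats 3200000 in
theorem quot_main (A S T : Type u) [CommRing A] [HenselianLocalRing A] [IsNoetherianRing A]
    [CommRing S] [IsLocalRing S] [Algebra A S] [IsLocalHom (algebraMap A S)]
    [Hensel.IsStrictHenselization A S] [CommRing T] [IsDomain T] [Algebra A T]
    (π : S →ₐ[A] T) (hπ : Function.Surjective π) (hker : (RingHom.ker (π : S →+* T)).FG)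
    (extra : Finset S) (t : Finset (FractionRing T)) (L : Subfield (FractionRing T))
    (hL : L = Subfield.closure
      (Set.range (algebraMap A (FractionRing T)) ∪ (t : Set (FractionRing T)))) :
    ∃ (E : Subalgebra A S) (D' : Subalgebra A T),
      (∃ _ : IsLocalRing E, EGA4loc.IsEssentiallyEtale A E) ∧ (extra : Set S) ⊆ (E : Set S) ∧
      (D' : Set T) = (algebraMap T (FractionRing T)) ⁻¹' (L : Set (FractionRing T)) ∧
      (∀ x : S, π x ∈ D' → ∃ e ∈ E, π e = π x) ∧
      Module.Finite A D' ∧
      (∃ (_ : IsLocalRing D') (_ : IsLocalHom (algebraMap A D')),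
        Ideal.map (algebraMap A D') (maximalIdeal A) = maximalIdeal D' ∧
        Algebra.IsSeparable (ResidueField A) (ResidueField D')) ∧
      (∀ l ∈ L, ∃ a ∈ D', ∃ b ∈ D', algebraMap T (FractionRing T) b ≠ 0 ∧
        l * algebraMap T (FractionRing T) b = algebraMap T (FractionRing T) a) := by
  classical
  have hSh : HenselianLocalRing S := Hensel.IsStrictHenselization.henselian (R := A) (S := S)
  haveI hSsep : IsSepClosed (ResidueField S) :=
    (Hensel.IsStrictHenselization.isSepClosure (R := A) (S := S)).sep_closed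
  haveI hSsepble : Algebra.IsSeparable (ResidueField A) (ResidueField S) :=
    (Hensel.IsStrictHenselization.isSepClosure (R := A) (S := S)).separable
  -- `T` is local
  haveI hTloc : IsLocalRing T := IsLocalRing.of_surjective' (π : S →+* T) hπ
  haveI hπloc : IsLocalHom (π : S →+* T) := IsLocalHom.of_surjective (π : S →+* T) hπ
  haveI hATloc : IsLocalHom (algebraMap A T) := by
    constructor
    intro a ha
    have h1 : IsUnit ((π : S →+* T) (algebraMap A S a)) := by
      have h2 : (π : S →+* T) (algebraMap A S a) = algebraMap A T a := π.commutes a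
      rw [h2]
      exact ha
    exact isUnit_of_map_unit (algebraMap A S) a (isUnit_of_map_unit (π : S →+* T) _ h1)
  have hι : Function.Injective (algebraMap T (FractionRing T)) :=
    IsFractionRing.injective T (FractionRing T)
  have hAL : ∀ a : A, algebraMap A (FractionRing T) a ∈ L := by
    intro a
    rw [hL]
    exact Subfield.subset_closure (Or.inl ⟨a, rfl⟩)
  have hATK : ∀ a : A, algebraMap T (FractionRing T) (algebraMap A T a) =
      algebraMap A (FractionRing T) a :=
    fun a => (IsScalarTower.algebraMap_apply A T (FractionRing T) a).symm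
  -- D'
  let D : Subalgebra A T :=
    { carrier := {x | algebraMap T (FractionRing T) x ∈ L}
      mul_mem' := fun {a b} ha hb => by
        show algebraMap T (FractionRing T) (a * b) ∈ L
        rw [map_mul]; exact mul_mem ha hb
      one_mem' := by
        show algebraMap T (FractionRing T) 1 ∈ L
        rw [map_one]; exact one_mem L
      add_mem' := fun {a b} ha hb => by
        show algebraMap T (FractionRing T) (a + b) ∈ L
        rw [map_add]; exact add_mem ha hb
      zero_mem' := by
        show algebraMap T (FractionRing T) 0 ∈ L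
        rw [map_zero]; exact zero_mem L
      algebraMap_mem' := fun a => by
        show algebraMap T (FractionRing T) (algebraMap A T a) ∈ L
        rw [hATK]; exact hAL a }
  have hD : ∀ x : T, x ∈ D ↔ algebraMap T (FractionRing T) x ∈ L := fun x => Iff.rfl
  -- units
  have hunit : ∀ d : D, IsUnit (d : T) → IsUnit d := by
    intro d hd
    obtain ⟨u, hu⟩ := hd.exists_right_inv
    have huL : algebraMap T (FractionRing T) u ∈ L := by
      have h1 : algebraMap T (FractionRing T) (d : T) * algebraMap T (FractionRing T) u = 1 := by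
        rw [← map_mul, hu, map_one]
      have h2 : algebraMap T (FractionRing T) u = (algebraMap T (FractionRing T) (d : T))⁻¹ :=
        eq_inv_of_mul_eq_one_right h1
      rw [h2]
      exact inv_mem ((hD d).mp d.2)
    exact isUnit_iff_exists_inv.mpr ⟨⟨u, (hD u).mpr huL⟩, Subtype.ext hu⟩
  haveI hDnt : Nontrivial D := ⟨⟨0, 1, fun h => zero_ne_one (α := T) (congrArg Subtype.val h)⟩⟩
  haveI hDloc : IsLocalRing D := by
    apply IsLocalRing.of_nonunits_add
    intro a b ha hb
    have ha' : (a : T) ∈ maximalIdeal T := by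
      rw [mem_maximalIdeal, mem_nonunits_iff]
      exact fun hu => ha (hunit a hu)
    have hb' : (b : T) ∈ maximalIdeal T := by
      rw [mem_maximalIdeal, mem_nonunits_iff]
      exact fun hu => hb (hunit b hu)
    have hab : ((a + b : D) : T) ∈ maximalIdeal T := Ideal.add_mem _ ha' hb'
    intro hu
    have h1 : IsUnit ((a + b : D) : T) := hu.map (algebraMap D T)
    exact (mem_maximalIdeal _).mp hab h1
  haveI hDT : IsLocalHom (algebraMap D T) := ⟨fun d hd => hunit d hd⟩
  haveI hAD : IsLocalHom (algebraMap A D) := by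
    constructor
    intro a ha
    have h1 : IsUnit (algebraMap D T (algebraMap A D a)) := ha.map _
    rw [← IsScalarTower.algebraMap_apply] at h1
    exact isUnit_of_map_unit (algebraMap A T) a h1
  -- numerators and denominators
  have hfrac : ∀ τ : FractionRing T, ∃ p : S × S, π p.2 ≠ 0 ∧
      τ * algebraMap T (FractionRing T) (π p.2) = algebraMap T (FractionRing T) (π p.1) := by
    intro τ
    obtain ⟨⟨a, b⟩, hab⟩ := IsLocalization.surj (nonZeroDivisors T) τ
    obtain ⟨a', ha'⟩ := hπ a
    obtain ⟨b', hb'⟩ := hπ (b : T)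
    refine ⟨(a', b'), ?_, ?_⟩
    · show π b' ≠ 0
      rw [hb']
      exact nonZeroDivisors.ne_zero b.2
    · show τ * algebraMap T (FractionRing T) (π b') = algebraMap T (FractionRing T) (π a')
      rw [ha', hb']
      exact hab
  choose nd hnd0 hnd using hfrac
  obtain ⟨gens, hgens⟩ := hker
  obtain ⟨E, _, _, _, φ, hEfin, hEet, hφinj, hφunit, hφs, hφff⟩ :=
    exists_stage' A S (t.image (fun τ => (nd τ).1) ∪ t.image (fun τ => (nd τ).2) ∪ gens ∪ extra)
  haveI := hEfin
  haveI := hEet
  haveI hAE : IsLocalHom (algebraMap A E) := by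
    constructor
    intro a ha
    have h1 : IsUnit (φ (algebraMap A E a)) := ha.map φ
    rw [φ.commutes] at h1
    exact isUnit_of_map_unit (algebraMap A S) a h1
  obtain ⟨h, ζE, hm, hζE, hirr, hsep, hadj⟩ := exists_prim A E
  let ψ : E →ₐ[A] T := π.comp φ
  have hψ : ∀ x, ψ x = π (φ x) := fun _ => rfl
  have hζ : aeval (ψ ζE) h = 0 := by
    rw [Polynomial.aeval_algHom_apply, hζE, map_zero]
  have hrange : Algebra.adjoin A {ψ ζE} = ψ.range := by
    rw [← Set.image_singleton, ← AlgHom.map_adjoin, hadj, Algebra.map_top]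
  -- fractions
  let g : E →+* FractionRing T := (algebraMap T (FractionRing T)).comp (ψ : E →+* T)
  have hg : ∀ x, g x = algebraMap T (FractionRing T) (ψ x) := fun _ => rfl
  have hgA : ∀ a : A, g (algebraMap A E a) = algebraMap A (FractionRing T) a := by
    intro a
    rw [hg, ψ.commutes, hATK]
  have hQ : ∀ y, y ∈ Subfield.closure
      (Set.range (algebraMap A (FractionRing T)) ∪ (t : Set (FractionRing T))) →
      ∃ a b : E, g b ≠ 0 ∧ y * g b = g a := by
    intro y hy
    induction hy using Subfield.closure_induction with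
    | mem y hy =>
      rcases hy with ⟨a, rfl⟩ | hy
      · exact ⟨algebraMap A E a, 1, by rw [map_one]; exact one_ne_zero,
          by rw [map_one, mul_one, hgA]⟩
      · have hyt : y ∈ t := hy
        obtain ⟨a, ha⟩ := hφs (nd y).1 (Finset.mem_union_left _ (Finset.mem_union_left _
          (Finset.mem_union_left _ (Finset.mem_image_of_mem _ hyt))))
        obtain ⟨b, hb⟩ := hφs (nd y).2 (Finset.mem_union_left _ (Finset.mem_union_left _
          (Finset.mem_union_right _ (Finset.mem_image_of_mem _ hyt))))
        refine ⟨a, b, ?_, ?_⟩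
        · rw [hg, hψ, hb]
          exact fun h0 => hnd0 y (hι (h0.trans (map_zero _).symm))
        · rw [hg, hg, hψ, hψ, ha, hb]
          exact hnd y
    | one => exact ⟨1, 1, by rw [map_one]; exact one_ne_zero, by rw [map_one, mul_one]⟩
    | add y₁ y₂ _ _ h₁ h₂ =>
      obtain ⟨a₁, b₁, hb₁, e₁⟩ := h₁
      obtain ⟨a₂, b₂, hb₂, e₂⟩ := h₂
      refine ⟨a₁ * b₂ + a₂ * b₁, b₁ * b₂, by rw [map_mul]; exact mul_ne_zero hb₁ hb₂, ?_⟩
      rw [map_mul, map_add, map_mul, map_mul, ← e₁, ← e₂]
      ring
    | neg y _ h₁ =>
      obtain ⟨a₁, b₁, hb₁, e₁⟩ := h₁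
      exact ⟨-a₁, b₁, hb₁, by rw [map_neg, ← e₁]; ring⟩
    | inv y _ h₁ =>
      obtain ⟨a₁, b₁, hb₁, e₁⟩ := h₁
      by_cases hy0 : y = 0
      · exact ⟨0, 1, by rw [map_one]; exact one_ne_zero,
          by rw [hy0, inv_zero, zero_mul, map_zero]⟩
      · have ha₁ : g a₁ ≠ 0 := by
          rw [← e₁]
          exact mul_ne_zero hy0 hb₁
        refine ⟨b₁, a₁, ha₁, ?_⟩
        rw [← e₁, ← mul_assoc, inv_mul_cancel₀ hy0, one_mul]
    | mul y₁ y₂ _ _ h₁ h₂ =>
      obtain ⟨a₁, b₁, hb₁, e₁⟩ := h₁
      obtain ⟨a₂, b₂, hb₂, e₂⟩ := h₂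
      refine ⟨a₁ * a₂, b₁ * b₂, by rw [map_mul]; exact mul_ne_zero hb₁ hb₂, ?_⟩
      rw [map_mul, map_mul, ← e₁, ← e₂]
      ring
  -- the kernel is extended from `E`
  have hkerle : RingHom.ker (π : S →+* T) ≤
      ((RingHom.ker (π : S →+* T)).comap (φ : E →+* S)).map (φ : E →+* S) := by
    have h0 : Ideal.span (gens : Set S) ≤
        ((RingHom.ker (π : S →+* T)).comap (φ : E →+* S)).map (φ : E →+* S) := by
      rw [Ideal.span_le]
      intro c hc
      obtain ⟨x, hx⟩ := hφs c (Finset.mem_union_left _ (Finset.mem_union_right _ hc))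
      have hcker : c ∈ RingHom.ker (π : S →+* T) := by
        rw [← hgens]
        exact Ideal.subset_span hc
      have h1 : x ∈ (RingHom.ker (π : S →+* T)).comap (φ : E →+* S) := by
        show φ x ∈ RingHom.ker (π : S →+* T)
        rw [hx]
        exact hcker
      have h2 := Ideal.mem_map_of_mem (φ : E →+* S) h1
      have h3 : (φ : E →+* S) x = c := hx
      rw [h3] at h2
      exact h2
    exact le_of_eq_of_le hgens.symm h0
  -- saturation
  have hsat : ∀ (x : T) (a b : E), ψ b ≠ 0 → x * ψ b = ψ a → ∃ r : E, ψ r = x := by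
    intro x a b hb hx
    obtain ⟨s, rfl⟩ := hπ x
    have h1 : s * φ b - φ a ∈ RingHom.ker (π : S →+* T) := by
      rw [RingHom.mem_ker]
      show π (s * φ b - φ a) = 0
      rw [map_sub, map_mul, ← hψ, ← hψ, hx, sub_self]
    have h2 : φ a ∈ (Ideal.span {b} ⊔ (RingHom.ker (π : S →+* T)).comap (φ : E →+* S)).map
        (φ : E →+* S) := by
      rw [Ideal.map_sup]
      have h3 : φ a = s * φ b - (s * φ b - φ a) := by ring
      rw [h3]
      refine Ideal.sub_mem _ (Ideal.mem_sup_left ?_) (Ideal.mem_sup_right (hkerle h1))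
      exact Ideal.mul_mem_left _ s
        (Ideal.mem_map_of_mem (φ : E →+* S) (Ideal.mem_span_singleton_self b))
    have h4 := hφff _ a h2
    obtain ⟨y, hy, w, hw, hyw⟩ := Submodule.mem_sup.mp h4
    obtain ⟨r, hr⟩ := Ideal.mem_span_singleton'.mp hy
    have hw0 : ψ w = 0 := by
      have h5 : φ w ∈ RingHom.ker (π : S →+* T) := hw
      exact h5
    refine ⟨r, ?_⟩
    have h6 : ψ a = ψ r * ψ b := by
      rw [← hyw, map_add, hw0, add_zero, ← hr, map_mul]
    have h7 : π s * ψ b = ψ r * ψ b := by rw [hx, h6]
    exact (mul_right_cancel₀ hb h7).symm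
  have hDE : ∀ x ∈ D, x ∈ Algebra.adjoin A {ψ ζE} := by
    intro x hx
    rw [hrange]
    have hxL : algebraMap T (FractionRing T) x ∈ Subfield.closure
        (Set.range (algebraMap A (FractionRing T)) ∪ (t : Set (FractionRing T))) := by
      rw [← hL]
      exact (hD x).mp hx
    obtain ⟨a, b, hb, hab⟩ := hQ _ hxL
    have hb0 : ψ b ≠ 0 := fun h0 => hb (by rw [hg, h0, map_zero])
    have h1 : x * ψ b = ψ a := by
      apply hι
      rw [map_mul]
      exact hab
    obtain ⟨r, hr⟩ := hsat x a b hb0 h1
    exact ⟨r, hr⟩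
  -- finiteness of D
  haveI hEN : IsNoetherian A E := isNoetherian_of_isNoetherianRing_of_finite A E
  have hDfg : (Subalgebra.toSubmodule D).FG := by
    have h1 : ((Subalgebra.toSubmodule D).comap ψ.toLinearMap).FG := IsNoetherian.noetherian _
    have h2 : ((Subalgebra.toSubmodule D).comap ψ.toLinearMap).map ψ.toLinearMap =
        Subalgebra.toSubmodule D := by
      rw [Submodule.map_comap_eq]
      apply inf_eq_right.mpr
      intro x hx
      have h3 := hDE x hx
      rw [hrange] at h3
      obtain ⟨y, hy⟩ := h3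
      exact ⟨y, hy⟩
    rw [← h2]
    exact h1.map _
  haveI hDfin : Module.Finite A D := ⟨(Submodule.fg_top _).mpr hDfg⟩
  have hsplit : (h.map (algebraMap A T)).Splits := splits_map_of_separable' hSh π h hm hsep
  have hmD : Ideal.map (algebraMap A D) (maximalIdeal A) = maximalIdeal D := by
    apply le_antisymm
    · rw [Ideal.map_le_iff_le_comap]
      intro a ha
      rw [Ideal.mem_comap, mem_maximalIdeal, mem_nonunits_iff]
      intro hu
      exact (mem_maximalIdeal a).mp ha (isUnit_of_map_unit (algebraMap A D) a hu)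
    · intro x hx
      have hxS : (x : T) ∈ maximalIdeal T := by
        rw [mem_maximalIdeal, mem_nonunits_iff]
        intro hu
        exact (mem_maximalIdeal x).mp hx (hunit x hu)
      exact crux' L hAL D hD h hm hirr hsplit (ψ ζE) hζ hDE x hxS
  -- separable residue field
  have hsepD : Algebra.IsSeparable (ResidueField A) (ResidueField D) := by
    constructor
    intro xb
    obtain ⟨d, rfl⟩ := residue_surjective xb
    obtain ⟨s, hs⟩ := hπ (d : T)
    have hsepS : (minpoly (ResidueField A) (residue S s)).Separable :=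
      Algebra.IsSeparable.isSeparable (ResidueField A) (residue S s)
    obtain ⟨P, hP⟩ := Polynomial.map_surjective (residue A) residue_surjective
      (minpoly (ResidueField A) (residue S s))
    have h1 : aeval s P ∈ maximalIdeal S := by
      rw [← residue_eq_zero_iff, residue_aeval, hP]
      exact minpoly.aeval _ _
    have h2 : aeval (d : T) P ∈ maximalIdeal T := by
      have h3 : aeval (d : T) P = π (aeval s P) := by
        rw [← hs, Polynomial.aeval_algHom_apply]
      rw [h3, mem_maximalIdeal, mem_nonunits_iff]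
      intro hu
      exact (mem_maximalIdeal _).mp h1 (isUnit_of_map_unit (π : S →+* T) _ hu)
    have h3 : aeval d P ∈ maximalIdeal D := by
      rw [mem_maximalIdeal, mem_nonunits_iff]
      intro hu
      have h4 : IsUnit (algebraMap D T (aeval d P)) := hu.map _
      have h5 : algebraMap D T (aeval d P) = aeval (d : T) P := by
        rw [← Polynomial.aeval_algebraMap_apply]
        rfl
      rw [h5] at h4
      exact (mem_maximalIdeal _).mp h2 h4
    have h4 : aeval (residue D d) (minpoly (ResidueField A) (residue S s)) = 0 := by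
      rw [← hP, ← residue_aeval]
      exact (residue_eq_zero_iff _).mpr h3
    exact hsepS.of_dvd (minpoly.dvd _ _ h4)
  -- fractions of D
  have hfracD : ∀ l ∈ L, ∃ a ∈ D, ∃ b ∈ D, algebraMap T (FractionRing T) b ≠ 0 ∧
      l * algebraMap T (FractionRing T) b = algebraMap T (FractionRing T) a := by
    intro l hl
    have hlL : l ∈ Subfield.closure
        (Set.range (algebraMap A (FractionRing T)) ∪ (t : Set (FractionRing T))) := by
      rw [← hL]; exact hl
    obtain ⟨a, b, hb, hab⟩ := hQ l hlL
    have hb0 : ψ b ≠ 0 := fun h0 => hb (by rw [hg, h0, map_zero])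
    -- a multiple of `ψ b` in the image of `A`
    let Abar : Subalgebra A T := (Algebra.ofId A T).range
    have hbint : IsIntegral A (ψ b) := (Algebra.IsIntegral.isIntegral (R := A) b).map ψ
    have hbint' : IsIntegral Abar (ψ b) := hbint.tower_top
    have hne : (Ideal.span {ψ b}).comap (algebraMap Abar T) ≠ ⊥ :=
      Ideal.comap_ne_bot_of_integral_mem hb0 (Ideal.mem_span_singleton_self _) hbint'
    obtain ⟨c, hc, hc0⟩ := Submodule.exists_mem_ne_zero_of_ne_bot hne
    obtain ⟨b', hb'⟩ := Ideal.mem_span_singleton'.mp (Ideal.mem_comap.mp hc)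
    obtain ⟨c₀, hc₀⟩ := c.2
    have hcT : (c : T) ≠ 0 := fun h0 => hc0 (Subtype.ext h0)
    have hcT' : algebraMap A T c₀ = (c : T) := hc₀
    -- hb' : b' * ψ b = algebraMap Abar T c
    have hb'' : b' * ψ b = algebraMap A T c₀ := by
      rw [hcT']; exact hb'
    refine ⟨ψ a * b', ?_, algebraMap A T c₀, Subalgebra.algebraMap_mem D c₀, ?_, ?_⟩
    · rw [hD, map_mul]
      have h1 : algebraMap T (FractionRing T) (ψ a) * algebraMap T (FractionRing T) b' =
          l * algebraMap A (FractionRing T) c₀ := by
        rw [← hATK, ← hb'', map_mul, ← hg, ← hg, ← hab]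
        ring
      rw [h1]
      exact mul_mem hl (hAL c₀)
    · rw [hcT']
      exact fun h0 => hcT (hι (h0.trans (map_zero _).symm))
    · rw [← hb'', map_mul, map_mul, ← hg, ← hg, ← hab]
      ring
  -- the subalgebra `E`
  have hElocal : IsLocalRing φ.range :=
    (AlgEquiv.ofInjective φ hφinj).toRingEquiv.isLocalRing
  have hEess : EGA4loc.IsEssentiallyEtale A φ.range := by
    obtain ⟨C, i1, i2, q, i3, h1, h2, ⟨e1⟩⟩ := isEssentiallyEtale_of_finite_etale_local A E
    exact ⟨C, i1, i2, q, i3, h1, h2, ⟨(AlgEquiv.ofInjective φ hφinj).symm.trans e1⟩⟩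
  refine ⟨φ.range, D, ⟨hElocal, hEess⟩, ?_, rfl, ?_, hDfin, ⟨hDloc, hAD, hmD, hsepD⟩, hfracD⟩
  · intro c hc
    obtain ⟨x, hx⟩ := hφs c (Finset.mem_union_right _ hc)
    exact ⟨x, hx⟩
  · intro x hx
    obtain ⟨r, hr⟩ := hDE (π x) hx |> fun h3 => by
      rw [hrange] at h3
      exact h3
    exact ⟨φ r, ⟨r, rfl⟩, hr⟩

end Groth.Agent.Helper7.InterField
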